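import Mathlib
import Groth.Agent.H29.KollarFlat2

/-!
# Fibre depth of a module flat over an Artinian local ring
-/

set_option autoImplicit false
set_option linter.style.haveILetI false
set_option maxHeartbeats 400000

universe u

open IsLocalRing TensorProduct Function
open Groth.Agent.H15.Depth Groth.Agent.H15.DepthSpread

namespace Groth.Agent.H29.Inf.Socle

section Soc

variable (A : Type u) [CommRing A] [IsLocalRing A] [IsArtinianRing A]

theorem exists_socle : ∃ s : A, s ≠ 0 ∧ ∀ x ∈ maximalIdeal A, x * s = 0 := by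
  classical
  have hnil : IsNilpotent (maximalIdeal A) := by
    have := IsArtinianRing.isNilpotent_jacobson_bot (R := A)
    rwa [IsLocalRing.jacobson_eq_maximalIdeal ⊥ bot_ne_top] at this
  have hex : ∃ k : ℕ, (maximalIdeal A) ^ k = ⊥ := by
    obtain ⟨k, hk⟩ := hnil
    exact ⟨k, by simpa using hk⟩
  let k := Nat.find hex
  have hk : (maximalIdeal A) ^ k = ⊥ := Nat.find_spec hex
  have hk0 : k ≠ 0 := by
    intro h0
    rw [h0, pow_zero, Ideal.one_eq_top] at hk
    exact top_ne_bot hk
  obtain ⟨j, hj⟩ := Nat.exists_eq_succ_of_ne_zero hk0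
  have hjne : (maximalIdeal A) ^ j ≠ ⊥ := Nat.find_min hex (by omega)
  obtain ⟨s, hs, hs0⟩ := Submodule.exists_mem_ne_zero_of_ne_bot hjne
  refine ⟨s, hs0, fun x hx => ?_⟩
  have : x * s ∈ (maximalIdeal A) ^ k := by
    rw [hj, pow_succ']
    exact Ideal.mul_mem_mul hx hs
  rwa [hk, Ideal.mem_bot] at this

end Soc

section Main

variable {A B : Type u} [CommRing A] [CommRing B] [IsNoetherianRing A] [IsNoetherianRing B]
  [IsLocalRing A] [IsArtinianRing A] [Algebra A B] (J : Ideal B)
  (M : Type u) [AddCommGroup M] [Module B M] [Module A M] [IsScalarTower A B M]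
  [Module.Finite B M] [Module.Flat A M]

/-- For `M` flat over an Artinian local ring, the `J`-depth of the closed fibre is at least
`min 2 (depth_J M)`. -/
theorem two_le_idealDepth_tensor_residue (h : 2 ≤ LocCoh.idealDepth J M) :
    2 ≤ LocCoh.idealDepth J (M ⊗[A] (A ⧸ maximalIdeal A)) := by
  obtain ⟨s, hs0, hs⟩ := exists_socle A
  -- the socle inclusion
  let ι : (A ⧸ maximalIdeal A) →ₗ[A] A :=
    Submodule.liftQ (maximalIdeal A) (LinearMap.toSpanSingleton A A s) (fun x hx => by
      rw [LinearMap.mem_ker, LinearMap.toSpanSingleton_apply, smul_eq_mul]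
      exact hs x hx)
  have hι : ∀ a : A, ι (Submodule.Quotient.mk a) = a * s := fun a => by
    show Submodule.liftQ _ _ _ (Submodule.Quotient.mk a) = _
    rw [Submodule.liftQ_apply, LinearMap.toSpanSingleton_apply, smul_eq_mul]
  have hιinj : Injective ι := by
    rw [← LinearMap.ker_eq_bot, LinearMap.ker_eq_bot']
    intro y hy
    obtain ⟨a, rfl⟩ := Submodule.Quotient.mk_surjective _ y
    rw [hι] at hy
    rw [Submodule.Quotient.mk_eq_zero]
    by_contra ha
    have hu : IsUnit a := by
      by_contra hnu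
      exact ha ((IsLocalRing.mem_maximalIdeal a).mpr hnu)
    exact hs0 (by
      have := congrArg (fun z => hu.unit⁻¹.1 * z) hy
      simpa [← mul_assoc] using this)
  let π : A →ₗ[A] A ⧸ Ideal.span {s} := Submodule.mkQ (Ideal.span {s})
  have hex : Function.Exact ι π := by
    intro a
    constructor
    · intro ha
      have ha' : a ∈ Ideal.span {s} := (Submodule.Quotient.mk_eq_zero _).mp ha
      obtain ⟨c, rfl⟩ := Ideal.mem_span_singleton'.mp ha'
      exact ⟨Submodule.Quotient.mk c, hι c⟩
    · rintro ⟨y, rfl⟩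
      obtain ⟨c, rfl⟩ := Submodule.Quotient.mk_surjective _ y
      rw [hι]
      show Submodule.Quotient.mk (c * s) = 0
      rw [Submodule.Quotient.mk_eq_zero]
      exact Ideal.mem_span_singleton'.mpr ⟨c, rfl⟩
  have hπ : Surjective π := Submodule.mkQ_surjective _
  haveI : Module.Finite B (M ⊗[A] (A ⧸ maximalIdeal A)) :=
    Groth.Agent.H29.FlatDepthMod.finite_tensor M _
  haveI : Module.Finite B (M ⊗[A] A) := Groth.Agent.H29.FlatDepthMod.finite_tensor M _
  haveI : Module.Finite B (M ⊗[A] (A ⧸ Ideal.span {s})) :=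
    Groth.Agent.H29.FlatDepthMod.finite_tensor M _
  have hinj : Injective (AlgebraTensorModule.lTensor B M ι) := fun a b hab =>
    Module.Flat.lTensor_preserves_injective_linearMap (M := M) ι hιinj hab
  have hexM : Function.Exact (AlgebraTensorModule.lTensor B M ι)
      (AlgebraTensorModule.lTensor B M π) := fun y => lTensor_exact M hex hπ y
  have hsurj : Surjective (AlgebraTensorModule.lTensor B M π) := fun y =>
    LinearMap.lTensor_surjective M hπ y
  have h2 : ((1 + 1 : ℕ) : ℕ∞) ≤ LocCoh.idealDepth J (M ⊗[A] A) := by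
    rw [idealDepth_congr (AlgebraTensorModule.rid A B M)]
    exact_mod_cast h
  have h1 : 1 ≤ LocCoh.idealDepth J (M ⊗[A] (A ⧸ maximalIdeal A)) :=
    Groth.Agent.H29.KollarFlat.one_le_idealDepth_of_injective J
      (AlgebraTensorModule.lTensor B M ι) hinj (le_trans (by norm_num) h2)
  have hfl : IsFiniteLength A (A ⧸ Ideal.span {s}) :=
    isFiniteLength_iff_isNoetherian_isArtinian.mpr ⟨inferInstance, inferInstance⟩
  have h3 : ((1 : ℕ) : ℕ∞) ≤ LocCoh.idealDepth J (M ⊗[A] (A ⧸ Ideal.span {s})) :=
    Groth.Agent.H29.KollarFlat.le_idealDepth_tensor_of_isFiniteLength J M 1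
      (by exact_mod_cast h1) hfl
  have := Groth.Agent.H29.KollarFlat.le_idealDepth_ker J (AlgebraTensorModule.lTensor B M ι)
    (AlgebraTensorModule.lTensor B M π) hinj hexM hsurj 1 h2 h3
  exact_mod_cast this

/-- The same for the closed fibre module `M / 𝔪_A M`. -/
theorem two_le_idealDepth_fibMod (h : 2 ≤ LocCoh.idealDepth J M) :
    2 ≤ LocCoh.idealDepth J (EGA4.FibMod A B M) := by
  obtain ⟨e⟩ := Groth.Agent.H29.KollarFlat.nonempty_quotEquivTensor (B := B) M (maximalIdeal A)
  have h1 := two_le_idealDepth_tensor_residue (A := A) J M h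
  rw [← idealDepth_congr e] at h1
  exact h1

end Main

end Groth.Agent.H29.Inf.Socle
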