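import Mathlib
import Groth.Agent.H29.Inf.Socle
import Groth.Agent.S18708

/-!
# Kollár's criterion over an Artinian local base: flat kernel implies flat cokernel
-/

set_option autoImplicit false
set_option linter.style.haveILetI false
set_option maxHeartbeats 400000

universe u

open IsLocalRing TensorProduct Function
open Groth.Agent.H15.Depth Groth.Agent.H15.DepthSpread

namespace Groth.Agent.H29.Inf.ArtLocal

variable {A B : Type u} [CommRing A] [CommRing B] [IsNoetherianRing A] [IsNoetherianRing B]
  [IsLocalRing A] [IsArtinianRing A] [Algebra A B] (J : Ideal B)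

/-- Over an Artinian local base, the `J`-depth of a flat module is at least that of its closed
fibre. -/
theorem le_idealDepth_of_fibMod (M : Type u) [AddCommGroup M] [Module B M] [Module A M]
    [IsScalarTower A B M] [Module.Finite B M] [Module.Flat A M] (n : ℕ)
    (h : (n : ℕ∞) ≤ LocCoh.idealDepth J (EGA4.FibMod A B M)) :
    (n : ℕ∞) ≤ LocCoh.idealDepth J M := by
  have hnil : IsNilpotent (maximalIdeal A) := by
    have := IsArtinianRing.isNilpotent_jacobson_bot (R := A)
    rwa [IsLocalRing.jacobson_eq_maximalIdeal ⊥ bot_ne_top] at this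
  obtain ⟨k, hk⟩ := hnil
  have hk' : (EGA4.mB A B) ^ k = ⊥ := by
    show ((maximalIdeal A).map (algebraMap A B)) ^ k = ⊥
    rw [← Ideal.map_pow, hk]
    exact Ideal.map_bot
  have h1 := Groth.Agent.H29.KollarFlat.le_idealDepth_quot_pow J M n h k
  have hbot : ((EGA4.mB A B) ^ k • (⊤ : Submodule B M)) = ⊥ := by
    rw [hk', Submodule.bot_smul]
  rw [idealDepth_congr (Submodule.quotEquivOfEqBot _ hbot)] at h1
  exact h1

variable [IsLocalRing B] [IsLocalHom (algebraMap A B)]

/-- If the kernel `K` of `E⁰ → E¹` is flat over the Artinian local base, so is the cokernel. -/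
theorem flat_coker_of_flat_ker
    (K E0 E1 G : Type u) [AddCommGroup K] [Module B K] [Module A K] [IsScalarTower A B K]
    [Module.Finite B K] [Module.Flat A K]
    [AddCommGroup E0] [Module B E0] [Module A E0] [IsScalarTower A B E0] [Module.Finite B E0]
    [Module.Flat A E0]
    [AddCommGroup E1] [Module B E1] [Module A E1] [IsScalarTower A B E1] [Module.Finite B E1]
    [Module.Flat A E1]
    [AddCommGroup G] [Module B G] [Module A G] [IsScalarTower A B G] [Module.Finite B G]
    (f : K →ₗ[B] E0) (u : E0 →ₗ[B] E1) (v : E1 →ₗ[B] G)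
    (hf : Injective f) (hfu : Function.Exact f u) (huv : Function.Exact u v) (hv : Surjective v)
    (hGU : ∀ q : PrimeSpectrum B, ¬ J ≤ q.asIdeal → FlatCA.FlatAt A q.asIdeal G)
    (h0 : 2 ≤ LocCoh.idealDepth J (EGA4.FibMod A B E0))
    (h1 : 1 ≤ LocCoh.idealDepth J (EGA4.FibMod A B E1)) : Module.Flat A G := by
  have d0 : ((1 + 1 : ℕ) : ℕ∞) ≤ LocCoh.idealDepth J E0 :=
    le_idealDepth_of_fibMod (A := A) J E0 2 (by exact_mod_cast h0)
  have d1 : 1 ≤ LocCoh.idealDepth J E1 := by
    have := le_idealDepth_of_fibMod (A := A) J E1 1 (by exact_mod_cast h1)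
    exact_mod_cast this
  have dZ : ((1 : ℕ) : ℕ∞) ≤ LocCoh.idealDepth J (LinearMap.range u) := by
    have := Groth.Agent.H29.KollarFlat.one_le_idealDepth_of_injective J
      (LinearMap.range u).subtype (Submodule.injective_subtype _) d1
    exact_mod_cast this
  have hex : Function.Exact f u.rangeRestrict := by
    intro x
    rw [← hfu x]
    constructor
    · intro h
      have := congrArg Subtype.val h
      simpa using this
    · intro h
      exact Subtype.ext (by simpa using h)
  have dK : 2 ≤ LocCoh.idealDepth J K := by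
    have := Groth.Agent.H29.KollarFlat.le_idealDepth_ker J f u.rangeRestrict hf hex
      (LinearMap.surjective_rangeRestrict u) 1 d0 dZ
    exact_mod_cast this
  have dKf : 2 ≤ LocCoh.idealDepth J (EGA4.FibMod A B K) :=
    Groth.Agent.H29.Inf.Socle.two_le_idealDepth_fibMod J K dK
  exact (Groth.Agent.S18708.result A B J K E0 E1 G f u v hf hfu huv hv hGU h0 h1).1.mp dKf

end Groth.Agent.H29.Inf.ArtLocal
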