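import Mathlib

/-!
# A four-term exact sequence whose cokernel is locally projective off `V(J)` is split up to `J^N`
-/

set_option autoImplicit false
set_option linter.style.haveILetI false
set_option maxHeartbeats 400000

universe u

open Function

namespace Groth.Agent.H29.Inf.Homotopy

variable {C : Type u} [CommRing C]

/-- The ideal of scalars `a` such that `v` has a section up to `a`. -/
def sectionIdeal {E1 G : Type u} [AddCommGroup E1] [Module C E1] [AddCommGroup G] [Module C G]
    (v : E1 →ₗ[C] G) : Ideal C where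
  carrier := {a | ∃ τ : G →ₗ[C] E1, v ∘ₗ τ = a • LinearMap.id}
  zero_mem' := ⟨0, by simp⟩
  add_mem' := by
    rintro a b ⟨τ1, h1⟩ ⟨τ2, h2⟩
    exact ⟨τ1 + τ2, by rw [LinearMap.comp_add, h1, h2, add_smul]⟩
  smul_mem' := by
    rintro c a ⟨τ, h⟩
    exact ⟨c • τ, by rw [LinearMap.comp_smul, h, smul_smul, smul_eq_mul]⟩

theorem exists_notMem_sectionIdeal [IsNoetherianRing C] {E1 G : Type u} [AddCommGroup E1]
    [Module C E1] [AddCommGroup G] [Module C G] [Module.Finite C G]
    (v : E1 →ₗ[C] G) (hv : Surjective v) (p : Ideal C) [p.IsPrime]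
    (hG : Module.Projective (Localization.AtPrime p) (LocalizedModule p.primeCompl G)) :
    ∃ a ∈ sectionIdeal v, a ∉ p := by
  haveI : Module.FinitePresentation C G := Module.finitePresentation_of_finite C G
  have hvp : Surjective (LocalizedModule.map p.primeCompl v) :=
    LocalizedModule.map_surjective _ v hv
  obtain ⟨τp, hτp⟩ := Module.projective_lifting_property
    (LocalizedModule.map p.primeCompl v) LinearMap.id hvp
  have hτp' : ∀ y, LocalizedModule.map p.primeCompl v (τp y) = y :=
    fun y => LinearMap.congr_fun hτp y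
  let g0 : G →ₗ[C] LocalizedModule p.primeCompl E1 :=
    (τp.restrictScalars C) ∘ₗ LocalizedModule.mkLinearMap p.primeCompl G
  obtain ⟨τ, s, hτ⟩ := Module.FinitePresentation.exists_lift_of_isLocalizedModule p.primeCompl
    (LocalizedModule.mkLinearMap p.primeCompl E1) g0
  have hτ' : ∀ y : G, LocalizedModule.mkLinearMap p.primeCompl E1 (τ y) =
      (s : C) • τp (LocalizedModule.mkLinearMap p.primeCompl G y) := fun y => by
    have := LinearMap.congr_fun hτ y
    simpa [g0, Submonoid.smul_def] using this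
  have hcomp : (LocalizedModule.mkLinearMap p.primeCompl G).comp (v ∘ₗ τ) =
      (LocalizedModule.mkLinearMap p.primeCompl G).comp ((s : C) • LinearMap.id) := by
    refine LinearMap.ext fun y => ?_
    have h1 : LocalizedModule.mkLinearMap p.primeCompl G (v (τ y)) =
        LocalizedModule.map p.primeCompl v (LocalizedModule.mkLinearMap p.primeCompl E1 (τ y)) := by
      simp [LocalizedModule.mkLinearMap_apply, LocalizedModule.map_mk]
    simp only [LinearMap.comp_apply, LinearMap.smul_apply, LinearMap.id_apply]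
    rw [h1, hτ', map_smul (LocalizedModule.mkLinearMap p.primeCompl G),
      ← algebraMap_smul (Localization p.primeCompl) (s : C) (τp _), map_smul, hτp',
      algebraMap_smul]
  obtain ⟨s', hs'⟩ := Module.Finite.exists_smul_of_comp_eq_of_isLocalizedModule p.primeCompl
    (LocalizedModule.mkLinearMap p.primeCompl G) (v ∘ₗ τ) ((s : C) • LinearMap.id) hcomp
  refine ⟨(s' : C) * (s : C), ⟨(s' : C) • τ, ?_⟩, p.primeCompl.mul_mem s'.2 s.2⟩
  rw [LinearMap.comp_smul, mul_smul]
  exact hs'

/-- The four-term sequence is split up to a power of `J`. -/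
theorem exists_homotopy [IsNoetherianRing C] (J : Ideal C)
    (F E0 E1 G : Type u) [AddCommGroup F] [Module C F] [AddCommGroup E0] [Module C E0]
    [AddCommGroup E1] [Module C E1] [Module.Projective C E1]
    [AddCommGroup G] [Module C G] [Module.Finite C G]
    (g : F →ₗ[C] E0) (h : E0 →ₗ[C] E1) (v : E1 →ₗ[C] G)
    (hg : Injective g) (hgh : Exact g h) (hhv : Exact h v) (hv : Surjective v)
    (hGU : ∀ p : PrimeSpectrum C, ¬ J ≤ p.asIdeal →
      Module.Projective (Localization.AtPrime p.asIdeal)
        (LocalizedModule p.asIdeal.primeCompl G)) :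
    ∃ N : ℕ, ∀ a ∈ J ^ N, ∃ (s : E1 →ₗ[C] E0) (t : E0 →ₗ[C] F),
      g ∘ₗ t + s ∘ₗ h = a • LinearMap.id ∧ t ∘ₗ g = a • LinearMap.id := by
  have hrad : J ≤ (sectionIdeal v).radical := by
    rw [Ideal.radical_eq_sInf]
    refine le_sInf fun p hp => ?_
    obtain ⟨hle, hprime⟩ := hp
    by_contra hJ
    haveI := hprime
    obtain ⟨a, ha, hap⟩ := exists_notMem_sectionIdeal v hv p (hGU ⟨p, hprime⟩ hJ)
    exact hap (hle ha)
  obtain ⟨N, hN⟩ := Ideal.exists_pow_le_of_le_radical_of_fg hrad
    ((isNoetherianRing_iff_ideal_fg C).mp inferInstance J)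
  refine ⟨N, fun a ha => ?_⟩
  obtain ⟨τ, hτ⟩ := hN ha
  have hτ' : ∀ y, v (τ y) = a • y := fun y => LinearMap.congr_fun hτ y
  -- `σ = a - τ v` lands in `range h`
  let σ : E1 →ₗ[C] E1 := a • LinearMap.id - τ ∘ₗ v
  have hσ : ∀ x, σ x ∈ LinearMap.range h := fun x => by
    rw [← LinearMap.exact_iff.mp hhv, LinearMap.mem_ker]
    simp only [σ, LinearMap.sub_apply, LinearMap.smul_apply, LinearMap.id_apply,
      LinearMap.comp_apply, map_sub, map_smul, hτ', sub_self]
  let σ' : E1 →ₗ[C] LinearMap.range h := LinearMap.codRestrict _ σ hσ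
  obtain ⟨s, hs⟩ := Module.projective_lifting_property h.rangeRestrict σ'
    (LinearMap.surjective_rangeRestrict h)
  have hs' : ∀ x, h (s x) = a • x - τ (v x) := fun x => by
    have := congrArg Subtype.val (LinearMap.congr_fun hs x)
    simpa [σ', σ] using this
  have hvh : ∀ x, v (h x) = 0 := fun x => (hhv (h x)).mpr ⟨x, rfl⟩
  have hmem : ∀ x : E0, a • x - s (h x) ∈ LinearMap.range g := fun x => by
    rw [← LinearMap.exact_iff.mp hgh, LinearMap.mem_ker, map_sub, map_smul, hs', hvh, map_zero,
      sub_zero, sub_self]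
  let e := LinearEquiv.ofInjective g hg
  let t : E0 →ₗ[C] F := e.symm.toLinearMap ∘ₗ
    LinearMap.codRestrict (LinearMap.range g) (a • LinearMap.id - s ∘ₗ h) (fun x => by
      simpa using hmem x)
  have ht : ∀ x : E0, g (t x) = a • x - s (h x) := fun x => by
    have h1 := e.apply_symm_apply (LinearMap.codRestrict (LinearMap.range g)
      (a • LinearMap.id - s ∘ₗ h) (fun x => by simpa using hmem x) x)
    have h2 := congrArg Subtype.val h1
    rw [LinearEquiv.ofInjective_apply] at h2
    rw [show t x = e.symm (LinearMap.codRestrict (LinearMap.range g)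
      (a • LinearMap.id - s ∘ₗ h) (fun x => by simpa using hmem x) x) from rfl, h2]
    simp
  refine ⟨s, t, ?_, ?_⟩
  · refine LinearMap.ext fun x => ?_
    simp only [LinearMap.add_apply, LinearMap.comp_apply, LinearMap.smul_apply,
      LinearMap.id_apply, ht]
    abel
  · refine LinearMap.ext fun y => hg ?_
    have hgy : h (g y) = 0 := (hgh (g y)).mpr ⟨y, rfl⟩
    simp only [LinearMap.comp_apply, LinearMap.smul_apply, LinearMap.id_apply, ht, hgy, map_zero,
      sub_zero, map_smul]

/-- Base change of a homotopy. -/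
theorem homotopy_baseChange {C' : Type u} [CommRing C'] [Algebra C C']
    {F E0 E1 : Type u} [AddCommGroup F] [Module C F] [AddCommGroup E0] [Module C E0]
    [AddCommGroup E1] [Module C E1] (g : F →ₗ[C] E0) (h : E0 →ₗ[C] E1) (a : C)
    (s : E1 →ₗ[C] E0) (t : E0 →ₗ[C] F)
    (h1 : g ∘ₗ t + s ∘ₗ h = a • LinearMap.id) (h2 : t ∘ₗ g = a • LinearMap.id) :
    g.baseChange C' ∘ₗ t.baseChange C' + s.baseChange C' ∘ₗ h.baseChange C' =
      (algebraMap C C' a) • LinearMap.id ∧
    t.baseChange C' ∘ₗ g.baseChange C' = (algebraMap C C' a) • LinearMap.id := by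
  constructor
  · rw [← LinearMap.baseChange_comp, ← LinearMap.baseChange_comp, ← LinearMap.baseChange_add, h1,
      LinearMap.baseChange_smul, LinearMap.baseChange_id, algebraMap_smul]
  · rw [← LinearMap.baseChange_comp, h2, LinearMap.baseChange_smul, LinearMap.baseChange_id,
      algebraMap_smul]

end Groth.Agent.H29.Inf.Homotopy
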