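import Mathlib
import Groth.Agent.H29.KollarFlat2
import Groth.Agent.H29.KollarBC2
import Groth.Agent.S2612

/-!
# The double dual as a kernel, locally at a prime
-/

set_option autoImplicit false
set_option linter.style.haveILetI false
set_option maxHeartbeats 400000

universe u

open Function
open Groth.Agent.H15.Depth Groth.Agent.H15.DepthSpread

namespace Groth.Agent.H29.Inf.Hull

open Groth.Agent.H29.KollarBC2 (quasiInvIdeal)

section QI

variable {R : Type u} [CommRing R] [IsNoetherianRing R] {P Q : Type u} [AddCommGroup P]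
  [Module R P] [Module.Finite R P] [AddCommGroup Q] [Module R Q] [Module.Finite R Q]

/-- A map which is invertible up to the elements of `I` is bijective when the source has
`I`-depth `≥ 2` and the target `I`-depth `≥ 1`. -/
theorem bijective_of_quasiInv (φ : P →ₗ[R] Q) (I : Ideal R) (hI : I ≤ quasiInvIdeal φ)
    (hP : 2 ≤ LocCoh.idealDepth I P) (hQ : 1 ≤ LocCoh.idealDepth I Q) : Bijective φ := by
  have hkill : ∀ (X : Type u) [AddCommGroup X] [Module R X] [Module.Finite R X],
      1 ≤ LocCoh.idealDepth I X → ∀ t : X, (∀ a ∈ I, a • t = 0) → t = 0 := by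
    intro X _ _ _ h1 t ht
    refine Groth.Agent.H29.KollarFlat.torsion_eq_zero I h1 t (fun q hq => ?_)
    obtain ⟨a, haI, haq⟩ := SetLike.not_le_iff_exists.mp hq
    exact ⟨a, haq, ht a haI⟩
  have hinj : Injective φ := by
    rw [← LinearMap.ker_eq_bot, LinearMap.ker_eq_bot']
    intro p hp
    refine hkill P (le_trans (by norm_num) hP) p (fun a ha => ?_)
    obtain ⟨ρ, -, h2⟩ := hI ha
    have := LinearMap.congr_fun h2 p
    rw [LinearMap.comp_apply, hp, map_zero, LinearMap.smul_apply, LinearMap.id_apply] at this
    exact this.symm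
  refine ⟨hinj, ?_⟩
  have hT : ((1 : ℕ) : ℕ∞) ≤ LocCoh.idealDepth I (Q ⧸ LinearMap.range φ) :=
    Groth.Agent.H29.KollarFlat.le_idealDepth_coker I φ (LinearMap.range φ).mkQ hinj
      (LinearMap.exact_map_mkQ_range φ) (Submodule.mkQ_surjective _) 1 (by exact_mod_cast hQ)
      (by exact_mod_cast hP)
  intro y
  have h0 : (LinearMap.range φ).mkQ y = 0 := by
    refine hkill _ (by exact_mod_cast hT) _ (fun a ha => ?_)
    obtain ⟨ρ, h1, -⟩ := hI ha
    rw [← map_smul, Submodule.mkQ_apply, Submodule.Quotient.mk_eq_zero]
    refine ⟨ρ y, ?_⟩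
    have := LinearMap.congr_fun h1 y
    rwa [LinearMap.comp_apply, LinearMap.smul_apply, LinearMap.id_apply] at this
  rwa [Submodule.mkQ_apply, Submodule.Quotient.mk_eq_zero] at h0

end QI


section DK

variable {R : Type u} [CommRing R] [IsNoetherianRing R] (I : Ideal R)

theorem two_le_idealDepth_free (h2 : 2 ≤ LocCoh.idealDepth I R) (P : Type u) [AddCommGroup P]
    [Module R P] [Module.Finite R P] [Module.Free R P] : 2 ≤ LocCoh.idealDepth I P := by
  rcases subsingleton_or_nontrivial R with hs | hn
  · haveI : Subsingleton P := Module.subsingleton R P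
    rw [idealDepth_eq_top_of_subsingleton]
    exact le_top
  · rw [idealDepth_congr (Module.finBasis R P).equivFun]
    exact Groth.Agent.S2612.le_depth_pi I R 2 h2 _

/-- The kernel of a map of finite free modules has depth `≥ 2` when the ring has. -/
theorem two_le_idealDepth_ker (h2 : 2 ≤ LocCoh.idealDepth I R) (X P0 P1 : Type u)
    [AddCommGroup X] [Module R X] [Module.Finite R X]
    [AddCommGroup P0] [Module R P0] [Module.Finite R P0] [Module.Free R P0]
    [AddCommGroup P1] [Module R P1] [Module.Finite R P1] [Module.Free R P1]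
    (f : X →ₗ[R] P0) (u : P0 →ₗ[R] P1) (hf : Injective f) (hfu : Function.Exact f u) :
    2 ≤ LocCoh.idealDepth I X := by
  have d0 : ((1 + 1 : ℕ) : ℕ∞) ≤ LocCoh.idealDepth I P0 := by
    exact_mod_cast two_le_idealDepth_free I h2 P0
  have d1 : 1 ≤ LocCoh.idealDepth I P1 :=
    le_trans (by norm_num) (two_le_idealDepth_free I h2 P1)
  have dZ : ((1 : ℕ) : ℕ∞) ≤ LocCoh.idealDepth I (LinearMap.range u) := by
    have := Groth.Agent.H29.KollarFlat.one_le_idealDepth_of_injective I
      (LinearMap.range u).subtype (Submodule.injective_subtype _) d1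
    exact_mod_cast this
  have hex : Function.Exact f u.rangeRestrict := by
    intro x
    rw [← hfu x]
    constructor
    · intro h
      exact congrArg Subtype.val h
    · intro h
      exact Subtype.ext h
  have := Groth.Agent.H29.KollarFlat.le_idealDepth_ker I f u.rangeRestrict hf hex
    (LinearMap.surjective_rangeRestrict u) 1 d0 dZ
  exact_mod_cast this

end DK

section DKL

variable {B : Type u} [CommRing B] [IsNoetherianRing B] (q : Ideal B) [q.IsPrime]

omit [IsNoetherianRing B] in
theorem free_localizedModule (P : Type u) [AddCommGroup P] [Module B P] [Module.Free B P] :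
    Module.Free (Localization.AtPrime q) (LocalizedModule q.primeCompl P) :=
  Module.Free.of_equiv (IsLocalizedModule.isBaseChange q.primeCompl (Localization.AtPrime q)
    (LocalizedModule.mkLinearMap q.primeCompl P)).equiv

/-- Localized form of `two_le_idealDepth_ker`. -/
theorem two_le_idealDepth_localized_ker (I : Ideal (Localization.AtPrime q))
    (h2 : 2 ≤ LocCoh.idealDepth I (Localization.AtPrime q)) (X P0 P1 : Type u)
    [AddCommGroup X] [Module B X] [Module.Finite B X]
    [AddCommGroup P0] [Module B P0] [Module.Finite B P0] [Module.Free B P0]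
    [AddCommGroup P1] [Module B P1] [Module.Finite B P1] [Module.Free B P1]
    (f : X →ₗ[B] P0) (u : P0 →ₗ[B] P1) (hf : Injective f) (hfu : Function.Exact f u) :
    2 ≤ LocCoh.idealDepth I (LocalizedModule q.primeCompl X) := by
  haveI := free_localizedModule q P0
  haveI := free_localizedModule q P1
  exact two_le_idealDepth_ker I h2 (LocalizedModule q.primeCompl X)
    (LocalizedModule q.primeCompl P0) (LocalizedModule q.primeCompl P1)
    (LocalizedModule.map q.primeCompl f) (LocalizedModule.map q.primeCompl u)
    (LocalizedModule.map_injective _ f hf) (LocalizedModule.map_exact _ f u hfu)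

end DKL


section DualPres

variable {B : Type u} [CommRing B] [IsNoetherianRing B]

/-- The dual of a finite module is the kernel of a map of finite free modules. -/
theorem exists_dual_exact (X : Type u) [AddCommGroup X] [Module B X] [Module.Finite B X] :
    ∃ (s r : ℕ) (i : Module.Dual B X →ₗ[B] Module.Dual B (Fin s → B))
      (d : Module.Dual B (Fin s → B) →ₗ[B] Module.Dual B (Fin r → B)),
      Injective i ∧ Function.Exact i d := by
  obtain ⟨s, π, hπ⟩ := Module.Finite.exists_fin' B X
  obtain ⟨r, π', hπ'⟩ := Module.Finite.exists_fin' B (LinearMap.ker π)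
  refine ⟨s, r, π.dualMap, ((LinearMap.ker π).subtype ∘ₗ π').dualMap,
    LinearMap.dualMap_injective_of_surjective hπ, ?_⟩
  rw [LinearMap.exact_iff, LinearMap.ker_dualMap_eq_dualAnnihilator_range,
    LinearMap.range_dualMap_eq_dualAnnihilator_ker_of_surjective π hπ, LinearMap.range_comp,
    LinearMap.range_eq_top.mpr hπ', Submodule.map_top, Submodule.range_subtype]

example (s : ℕ) : Module.Free B (Module.Dual B (Fin s → B)) := inferInstance
example (s : ℕ) : Module.Finite B (Module.Dual B (Fin s → B)) := inferInstance

end DualPres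


section Main

variable {B : Type u} [CommRing B] [IsNoetherianRing B]

omit [IsNoetherianRing B] in
theorem dualMap_dualMap_eval {X Y : Type u} [AddCommGroup X] [Module B X] [AddCommGroup Y]
    [Module B Y] (f : X →ₗ[B] Y) (x : X) :
    f.dualMap.dualMap (Module.Dual.eval B X x) = Module.Dual.eval B Y (f x) :=
  LinearMap.ext fun _ => rfl

set_option maxHeartbeats 1600000 in
/-- (P1) hull = kernel, locally at a prime. -/
theorem nonempty_locDualDual_equiv_locKer
    (J : Ideal B) (q : Ideal B) [q.IsPrime]
    (h2 : 2 ≤ LocCoh.idealDepth (J.map (algebraMap B (Localization.AtPrime q)))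
      (Localization.AtPrime q))
    (F E0 E1 : Type u) [AddCommGroup F] [Module B F] [Module.Finite B F]
    [AddCommGroup E0] [Module B E0] [Module.Finite B E0] [Module.Free B E0]
    [AddCommGroup E1] [Module B E1] [Module.Finite B E1] [Module.Free B E1]
    (f : F →ₗ[B] E0) (u : E0 →ₗ[B] E1) (hfu : u ∘ₗ f = 0) (N : ℕ)
    (hH : ∀ a ∈ J ^ N, ∃ (s : E1 →ₗ[B] E0) (t : E0 →ₗ[B] F),
      f ∘ₗ t + s ∘ₗ u = a • LinearMap.id ∧ t ∘ₗ f = a • LinearMap.id) :
    Nonempty (LocalizedModule q.primeCompl (Module.Dual B (Module.Dual B F)) ≃ₗ[B]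
      LocalizedModule q.primeCompl (LinearMap.ker u)) := by
  classical
  let ψ₀ : Module.Dual B (Module.Dual B F) →ₗ[B] E0 :=
    (Module.evalEquiv B E0).symm.toLinearMap ∘ₗ f.dualMap.dualMap
  have hψ₀ : ∀ ξ, Module.Dual.eval B E0 (ψ₀ ξ) = f.dualMap.dualMap ξ := fun ξ =>
    (Module.evalEquiv B E0).apply_symm_apply _
  have hev0 : Injective (Module.Dual.eval B E0) := (Module.bijective_dual_eval B E0).1
  have hev1 : Injective (Module.Dual.eval B E1) := (Module.bijective_dual_eval B E1).1
  have huψ : ∀ ξ, u (ψ₀ ξ) = 0 := fun ξ => by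
    apply hev1
    rw [map_zero, ← dualMap_dualMap_eval, hψ₀]
    refine LinearMap.ext fun φ => ?_
    show ξ (f.dualMap (u.dualMap φ)) = 0
    have h0 : f.dualMap (u.dualMap φ) = 0 := by
      refine LinearMap.ext fun x => ?_
      show φ (u (f x)) = 0
      rw [show u (f x) = 0 from LinearMap.congr_fun hfu x, map_zero]
    rw [h0, map_zero]
  let ψ : Module.Dual B (Module.Dual B F) →ₗ[B] LinearMap.ker u :=
    LinearMap.codRestrict _ ψ₀ (fun ξ => LinearMap.mem_ker.mpr (huψ ξ))
  have hq : J ^ N ≤ quasiInvIdeal ψ := by
    intro a ha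
    obtain ⟨s, t, h1, h2⟩ := hH a ha
    let ρ : LinearMap.ker u →ₗ[B] Module.Dual B (Module.Dual B F) :=
      t.dualMap.dualMap ∘ₗ (Module.Dual.eval B E0) ∘ₗ (LinearMap.ker u).subtype
    refine ⟨ρ, ?_, ?_⟩
    · refine LinearMap.ext fun x => Subtype.ext ?_
      have e1 : f (t x.1) = a • x.1 := by
        have := LinearMap.congr_fun h1 x.1
        simp only [LinearMap.add_apply, LinearMap.comp_apply, LinearMap.smul_apply,
          LinearMap.id_apply] at this
        rw [show u x.1 = 0 from x.2, map_zero, add_zero] at this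
        exact this
      apply hev0
      show Module.Dual.eval B E0 (ψ₀ (t.dualMap.dualMap (Module.Dual.eval B E0 x.1))) =
        Module.Dual.eval B E0 (a • x.1)
      rw [hψ₀, dualMap_dualMap_eval, dualMap_dualMap_eval, e1]
    · refine LinearMap.ext fun ξ => ?_
      show t.dualMap.dualMap (Module.Dual.eval B E0 (ψ₀ ξ)) = a • ξ
      rw [hψ₀]
      refine LinearMap.ext fun φ => ?_
      show ξ (f.dualMap (t.dualMap φ)) = a • ξ φ
      have h0 : f.dualMap (t.dualMap φ) = a • φ := by
        refine LinearMap.ext fun x => ?_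
        show φ (t (f x)) = a • φ x
        have := LinearMap.congr_fun h2 x
        simp only [LinearMap.comp_apply, LinearMap.smul_apply, LinearMap.id_apply] at this
        rw [this, map_smul]
      rw [h0, map_smul]
  -- localization
  have hqL : (J.map (algebraMap B (Localization.AtPrime q))) ^ (N + 1) ≤
      quasiInvIdeal (P := LocalizedModule q.primeCompl (Module.Dual B (Module.Dual B F)))
        (Q := LocalizedModule q.primeCompl (LinearMap.ker u))
        (LocalizedModule.map q.primeCompl ψ) := by
    rw [← Ideal.map_pow, Ideal.map_le_iff_le_comap]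
    intro a ha
    obtain ⟨ρ, h1, h2⟩ := hq (Ideal.pow_le_pow_right (Nat.le_succ N) ha)
    refine ⟨LocalizedModule.map q.primeCompl ρ, ?_, ?_⟩
    · refine LinearMap.ext fun x => ?_
      induction x using LocalizedModule.induction_on with
      | h m s =>
        rw [LinearMap.comp_apply, LocalizedModule.map_mk, LocalizedModule.map_mk,
          LinearMap.smul_apply, LinearMap.id_apply, algebraMap_smul, LocalizedModule.smul'_mk]
        congr 1
        exact LinearMap.congr_fun h1 m
    · refine LinearMap.ext fun x => ?_
      induction x using LocalizedModule.induction_on with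
      | h m s =>
        rw [LinearMap.comp_apply, LocalizedModule.map_mk, LocalizedModule.map_mk,
          LinearMap.smul_apply, LinearMap.id_apply, algebraMap_smul, LocalizedModule.smul'_mk]
        congr 1
        exact LinearMap.congr_fun h2 m
  have h2' : 2 ≤ LocCoh.idealDepth ((J.map (algebraMap B (Localization.AtPrime q))) ^ (N + 1))
      (Localization.AtPrime q) :=
    Groth.Agent.H29.KollarBC2.le_idealDepth_pow_succ _ N _ 2 h2
  obtain ⟨s, r, i, d, hi, hid⟩ := exists_dual_exact (B := B) (Module.Dual B F)
  have dH := two_le_idealDepth_localized_ker q _ h2' (Module.Dual B (Module.Dual B F))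
    (Module.Dual B (Fin s → B)) (Module.Dual B (Fin r → B)) i d hi hid
  have dK := two_le_idealDepth_localized_ker q _ h2' (LinearMap.ker u) E0 E1
    (LinearMap.ker u).subtype u (Submodule.injective_subtype _) (LinearMap.exact_subtype_ker_map u)
  have hbij := bijective_of_quasiInv
    (P := LocalizedModule q.primeCompl (Module.Dual B (Module.Dual B F)))
    (Q := LocalizedModule q.primeCompl (LinearMap.ker u))
    (LocalizedModule.map q.primeCompl ψ) _ hqL dH
    (le_trans (by norm_num) dK)
  exact ⟨(LinearEquiv.ofBijective (LocalizedModule.map q.primeCompl ψ) hbij).restrictScalars B⟩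

end Main

end Groth.Agent.H29.Inf.Hull
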