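import Mathlib
import Groth.Agent.H29.Inf.ArtLocal
import Groth.Agent.H29.Inf.Homotopy
import Groth.Agent.H29.Inf.Hull
import Groth.Agent.H29.KollarLoc
import Groth.Agent.H29.KollarBC
import Groth.Agent.H29.KollarBC2
import Groth.Agent.S0602

/-!
# The Artinian step of Kollár's infinitesimal criterion
-/

set_option autoImplicit false
set_option linter.style.haveILetI false
set_option maxHeartbeats 800000
set_option synthInstance.maxHeartbeats 200000

universe u

open IsLocalRing TensorProduct Function
open Groth.Agent.H15.Depth Groth.Agent.H15.DepthSpread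

namespace Groth.Agent.H29.Inf.ArtStep

section HomIdeal

variable {B : Type u} [CommRing B] {F E0 E1 : Type u} [AddCommGroup F] [Module B F]
  [AddCommGroup E0] [Module B E0] [AddCommGroup E1] [Module B E1]

/-- Scalars `a` such that the complex `F → E⁰ → E¹` is split up to `a`. -/
def homIdeal (f : F →ₗ[B] E0) (u : E0 →ₗ[B] E1) : Ideal B where
  carrier := {a | ∃ (s : E1 →ₗ[B] E0) (t : E0 →ₗ[B] F),
    f ∘ₗ t + s ∘ₗ u = a • LinearMap.id ∧ t ∘ₗ f = a • LinearMap.id}
  zero_mem' := ⟨0, 0, by simp, by simp⟩
  add_mem' := by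
    rintro a b ⟨s1, t1, h1, h1'⟩ ⟨s2, t2, h2, h2'⟩
    refine ⟨s1 + s2, t1 + t2, ?_, ?_⟩
    · rw [LinearMap.comp_add, LinearMap.add_comp, add_smul, ← h1, ← h2]
      abel
    · rw [LinearMap.add_comp, h1', h2', add_smul]
  smul_mem' := by
    rintro c a ⟨s, t, h1, h1'⟩
    refine ⟨c • s, c • t, ?_, ?_⟩
    · rw [LinearMap.comp_smul, LinearMap.smul_comp, ← smul_add, h1, smul_smul, smul_eq_mul]
    · rw [LinearMap.smul_comp, h1', smul_smul, smul_eq_mul]

end HomIdeal

section Step

variable (R C : Type u) [CommRing R] [CommRing C] [IsNoetherianRing R] [IsLocalRing R]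
  [IsNoetherianRing C] [Algebra R C] [Module.Flat R C]

theorem comap_eq_maximalIdeal_of_artinian {A' C' : Type u} [CommRing A'] [IsArtinianRing A']
    [IsLocalRing A'] [CommRing C'] [Algebra A' C'] (q' : Ideal C') [q'.IsPrime] :
    q'.comap (algebraMap A' C') = maximalIdeal A' := by
  haveI : (q'.comap (algebraMap A' C')).IsPrime := Ideal.comap_isPrime _ _
  haveI : (q'.comap (algebraMap A' C')).IsMaximal := IsArtinianRing.isMaximal_of_isPrime _
  exact IsLocalRing.eq_maximalIdeal inferInstance

theorem isLocalHom_of_artinian {A' C' : Type u} [CommRing A'] [IsArtinianRing A']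
    [IsLocalRing A'] [CommRing C'] [Algebra A' C'] (q' : Ideal C') [q'.IsPrime] :
    IsLocalHom (algebraMap A' (Localization.AtPrime q')) := by
  constructor
  intro a ha
  by_contra hna
  have h1 : a ∈ maximalIdeal A' := (IsLocalRing.mem_maximalIdeal a).mpr hna
  rw [← comap_eq_maximalIdeal_of_artinian (C' := C') q', Ideal.mem_comap] at h1
  have h2 : algebraMap C' (Localization.AtPrime q') (algebraMap A' C' a) ∈
      maximalIdeal (Localization.AtPrime q') :=
    (IsLocalization.AtPrime.to_map_mem_maximal_iff (Localization.AtPrime q') q' _).mpr h1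
  rw [← IsScalarTower.algebraMap_apply] at h2
  exact (IsLocalRing.mem_maximalIdeal _).mp h2 ha

end Step



section Aux

variable {A' C' : Type u} [CommRing A'] [IsArtinianRing A'] [IsLocalRing A']
  [CommRing C'] [IsNoetherianRing C'] [Algebra A' C']

theorem aux (q' : Ideal C') [q'.IsPrime] (J' : Ideal C')
    (K E0 E1 G : Type u) [AddCommGroup K] [Module C' K] [Module A' K] [IsScalarTower A' C' K]
    [Module.Finite C' K]
    [AddCommGroup E0] [Module C' E0] [Module A' E0] [IsScalarTower A' C' E0] [Module.Finite C' E0]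
    [AddCommGroup E1] [Module C' E1] [Module A' E1] [IsScalarTower A' C' E1] [Module.Finite C' E1]
    [AddCommGroup G] [Module C' G] [Module A' G] [IsScalarTower A' C' G] [Module.Finite C' G]
    (f : K →ₗ[C'] E0) (u : E0 →ₗ[C'] E1) (v : E1 →ₗ[C'] G)
    (hf : Injective f) (hfu : Function.Exact f u) (huv : Function.Exact u v) (hv : Surjective v)
    [Module.Flat A' (LocalizedModule q'.primeCompl E0)]
    [Module.Flat A' (LocalizedModule q'.primeCompl E1)]
    (hK : Module.Flat A' (LocalizedModule q'.primeCompl K))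
    (hGU : ∀ Q : PrimeSpectrum (Localization.AtPrime q'),
      ¬ J'.map (algebraMap C' (Localization.AtPrime q')) ≤ Q.asIdeal →
      Module.Flat A' (LocalizedModule Q.asIdeal.primeCompl (LocalizedModule q'.primeCompl G)))
    (h0 : 2 ≤ LocCoh.idealDepth (J'.map (algebraMap C' (Localization.AtPrime q')))
      (EGA4.FibMod A' (Localization.AtPrime q') (LocalizedModule q'.primeCompl E0)))
    (h1 : 1 ≤ LocCoh.idealDepth (J'.map (algebraMap C' (Localization.AtPrime q')))
      (EGA4.FibMod A' (Localization.AtPrime q') (LocalizedModule q'.primeCompl E1))) :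
    Module.Flat A' (LocalizedModule q'.primeCompl G) := by
  haveI hloc : IsLocalHom (algebraMap A' (Localization.AtPrime q')) := isLocalHom_of_artinian q'
  haveI tK := Groth.Agent.H29.KollarBC.isScalarTower_loc A' q'.primeCompl K
  haveI tE0 := Groth.Agent.H29.KollarBC.isScalarTower_loc A' q'.primeCompl E0
  haveI tE1 := Groth.Agent.H29.KollarBC.isScalarTower_loc A' q'.primeCompl E1
  haveI tG := Groth.Agent.H29.KollarBC.isScalarTower_loc A' q'.primeCompl G
  haveI := hK
  exact Groth.Agent.H29.Inf.ArtLocal.flat_coker_of_flat_ker (A := A')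
    (B := Localization.AtPrime q') (J'.map (algebraMap C' (Localization.AtPrime q')))
    (LocalizedModule q'.primeCompl K) (LocalizedModule q'.primeCompl E0)
    (LocalizedModule q'.primeCompl E1) (LocalizedModule q'.primeCompl G)
    (LocalizedModule.map q'.primeCompl f) (LocalizedModule.map q'.primeCompl u)
    (LocalizedModule.map q'.primeCompl v)
    (LocalizedModule.map_injective _ f hf) (LocalizedModule.map_exact _ f u hfu)
    (LocalizedModule.map_exact _ u v huv) (LocalizedModule.map_surjective _ v hv)
    hGU h0 h1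

end Aux

section Main

variable {R C : Type u} [CommRing R] [CommRing C] [IsNoetherianRing R] [IsLocalRing R]
  [IsNoetherianRing C] [Algebra R C] [Module.Flat R C]

set_option maxHeartbeats 3200000 in
/-- The Artinian step. -/
theorem artStep (n : Ideal C) [n.IsPrime] (J : Ideal C)
    (hBF : ∀ (q : Ideal C) [q.IsPrime], J ≤ q → q ≤ n →
      q.comap (algebraMap R C) = maximalIdeal R →
      2 ≤ LocCoh.idealDepth (q.map (algebraMap C (EGA4.FibLocRing R C q)))
        (EGA4.FibLocRing R C q))
    (F E0 E1 G : Type u) [AddCommGroup F] [Module C F] [Module.Finite C F]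
    [AddCommGroup E0] [Module C E0] [Module R E0] [IsScalarTower R C E0] [Module.Finite C E0]
    [Module.Free C E0]
    [AddCommGroup E1] [Module C E1] [Module R E1] [IsScalarTower R C E1] [Module.Finite C E1]
    [Module.Free C E1]
    [AddCommGroup G] [Module C G] [Module.Finite C G]
    (g : F →ₗ[C] E0) (h : E0 →ₗ[C] E1) (v : E1 →ₗ[C] G)
    (hgh : Function.Exact g h) (hhv : Function.Exact h v) (hv : Surjective v)
    (hGU : ∀ q : PrimeSpectrum C, ¬ J ≤ q.asIdeal →
      Module.Free (Localization.AtPrime q.asIdeal) (LocalizedModule q.asIdeal.primeCompl G))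
    (N : ℕ) (hH : ∀ a ∈ J ^ N, ∃ (s : E1 →ₗ[C] E0) (t : E0 →ₗ[C] F),
      g ∘ₗ t + s ∘ₗ h = a • LinearMap.id ∧ t ∘ₗ g = a • LinearMap.id)
    (A' C' : Type u) [CommRing A'] [IsArtinianRing A'] [IsLocalRing A'] [Algebra R A']
    (hsurj : Surjective (algebraMap R A'))
    [CommRing C'] [IsNoetherianRing C'] [Algebra C C'] [Algebra A' C'] [Algebra R C']
    [IsScalarTower R C C'] [IsScalarTower R A' C'] [Algebra.IsPushout R C A' C']
    (q' : Ideal C') [q'.IsPrime] (hq' : q'.comap (algebraMap C C') = n)
    (hfl : FlatCA.FlatAt A' q' (Module.Dual C' (Module.Dual C' (C' ⊗[C] F)))) :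
    FlatCA.FlatAt A' q' (C' ⊗[C] G) := by
  classical
  haveI : Module.Flat A' C' := Groth.Agent.H29.KollarBC2.flat_of_isPushout R C A' C'
  haveI hloc : IsLocalHom (algebraMap A' (Localization.AtPrime q')) := isLocalHom_of_artinian q'
  have hqA : q'.comap (algebraMap A' C') = maximalIdeal A' := comap_eq_maximalIdeal_of_artinian q'
  have hmR : (maximalIdeal A').comap (algebraMap R A') = maximalIdeal R := by
    haveI : ((maximalIdeal A').comap (algebraMap R A')).IsMaximal :=
      Ideal.comap_isMaximal_of_surjective _ hsurj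
    exact IsLocalRing.eq_maximalIdeal inferInstance
  -- pointwise fibre depths of the ring `C'`
  have hZ' : ∀ q'' : PrimeSpectrum C', J.map (algebraMap C C') ≤ q''.asIdeal → q''.asIdeal ≤ q' →
      2 ≤ LocCoh.idealDepth (q''.asIdeal.map (algebraMap C' (EGA4.FibLocRing A' C' q''.asIdeal)))
        (EGA4.FibLocRing A' C' q''.asIdeal) := by
    intro q'' hJ hle
    refine Groth.Agent.H29.KollarBC.le_depth_fibLocRing_baseChange (A := R) (B := C) q''.asIdeal 2 ?_
    refine hBF (q''.asIdeal.comap (algebraMap C C')) (Ideal.map_le_iff_le_comap.mp hJ) ?_ ?_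
    · rw [← hq']
      exact Ideal.comap_mono hle
    · have h1 : (q''.asIdeal.comap (algebraMap C C')).comap (algebraMap R C) =
          (q''.asIdeal.comap (algebraMap A' C')).comap (algebraMap R A') := by
        rw [Ideal.comap_comap, Ideal.comap_comap, ← IsScalarTower.algebraMap_eq,
          ← IsScalarTower.algebraMap_eq]
      rw [h1, comap_eq_maximalIdeal_of_artinian q''.asIdeal, hmR]
  -- `J`-depth of the closed fibre of the localization of a finite projective module
  have hmB : EGA4.mB A' (Localization.AtPrime q') =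
      (q'.comap (algebraMap A' C')).map (algebraMap A' (Localization.AtPrime q')) := by
    rw [hqA]
  have hfib : ∀ (X : Type u) [AddCommGroup X] [Module C' X] [Module.Finite C' X]
      [Module.Projective C' X] (k : ℕ), k ≤ 2 →
      (k : ℕ∞) ≤ LocCoh.idealDepth
        ((J.map (algebraMap C C')).map (algebraMap C' (Localization.AtPrime q')))
        (EGA4.FibMod A' (Localization.AtPrime q') (LocalizedModule q'.primeCompl X)) := by
    intro X _ _ _ _ k hk
    rw [Groth.Agent.H26.DepthQuot.idealDepth_congr _
      (Submodule.quotEquivOfEq _ _ (by rw [hmB]) :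
        EGA4.FibMod A' (Localization.AtPrime q') (LocalizedModule q'.primeCompl X)
          ≃ₗ[Localization.AtPrime q'] EGA4.FibLocMod A' C' q' X)]
    refine Groth.Agent.H29.KollarLoc.le_idealDepth_fibLocMod (A := A') q'
      (J.map (algebraMap C C')) X k (fun q'' hJ hle => ?_)
    refine Groth.Agent.H29.KollarBC.le_depth_fibLocMod_of_projective A' C' q''.asIdeal X k ?_
    refine le_trans ?_ (hZ' q'' hJ hle)
    exact_mod_cast hk
  -- depth of the local ring `C'_{q'}` along `J`
  have hB2 : 2 ≤ LocCoh.idealDepth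
      ((J.map (algebraMap C C')).map (algebraMap C' (Localization.AtPrime q')))
      (Localization.AtPrime q') := by
    haveI : Module.Flat A' (LocalizedModule q'.primeCompl C') :=
      Groth.Agent.H34.FibDepthMod.flat_localizedModule q'.primeCompl C'
    have h1 := hfib C' 2 le_rfl
    have h2 := Groth.Agent.H29.Inf.ArtLocal.le_idealDepth_of_fibMod (A := A')
      ((J.map (algebraMap C C')).map (algebraMap C' (Localization.AtPrime q')))
      (LocalizedModule q'.primeCompl C') 2 h1
    rw [idealDepth_congr (Groth.Agent.S0602.locSelfEquiv q'.primeCompl)] at h2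
    exact_mod_cast h2
  -- the base-changed homotopy
  have hH' : ∀ a ∈ (J.map (algebraMap C C')) ^ N,
      ∃ (s : C' ⊗[C] E1 →ₗ[C'] C' ⊗[C] E0) (t : C' ⊗[C] E0 →ₗ[C'] C' ⊗[C] F),
        g.baseChange C' ∘ₗ t + s ∘ₗ h.baseChange C' = a • LinearMap.id ∧
        t ∘ₗ g.baseChange C' = a • LinearMap.id := by
    have hle : (J.map (algebraMap C C')) ^ N ≤ homIdeal (g.baseChange C') (h.baseChange C') := by
      rw [← Ideal.map_pow, Ideal.map_le_iff_le_comap]
      intro a ha
      obtain ⟨s, t, h1, h2⟩ := hH a ha
      obtain ⟨e1, e2⟩ := Groth.Agent.H29.Inf.Homotopy.homotopy_baseChange (C' := C') g h a s t h1 h2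
      exact ⟨s.baseChange C', t.baseChange C', e1, e2⟩
    exact fun a ha => hle ha
  have hgh' : h.baseChange C' ∘ₗ g.baseChange C' = 0 := by
    rw [← LinearMap.baseChange_comp, hgh.linearMap_comp_eq_zero, LinearMap.baseChange_zero]
  obtain ⟨e⟩ := Groth.Agent.H29.Inf.Hull.nonempty_locDualDual_equiv_locKer
    (J.map (algebraMap C C')) q' hB2 (C' ⊗[C] F) (C' ⊗[C] E0) (C' ⊗[C] E1)
    (g.baseChange C') (h.baseChange C') hgh' N hH'
  haveI hKfl : Module.Flat A'
      (LocalizedModule q'.primeCompl (LinearMap.ker (h.baseChange C'))) := by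
    haveI : Module.Flat A' (LocalizedModule q'.primeCompl
        (Module.Dual C' (Module.Dual C' (C' ⊗[C] F)))) := hfl
    exact Module.Flat.of_linearEquiv (e.restrictScalars A').symm
  -- flatness of the free terms
  haveI : Module.Flat R E0 := Module.Flat.trans R C E0
  haveI : Module.Flat R E1 := Module.Flat.trans R C E1
  haveI : Module.Flat A' (C' ⊗[C] E0) :=
    Groth.Agent.H29.KollarBC2.flat_tensor_of_isPushout R C A' C' E0
  haveI : Module.Flat A' (C' ⊗[C] E1) :=
    Groth.Agent.H29.KollarBC2.flat_tensor_of_isPushout R C A' C' E1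
  haveI : Module.Flat A' (LocalizedModule q'.primeCompl (C' ⊗[C] E0)) :=
    Groth.Agent.H34.FibDepthMod.flat_localizedModule q'.primeCompl (C' ⊗[C] E0)
  haveI : Module.Flat A' (LocalizedModule q'.primeCompl (C' ⊗[C] E1)) :=
    Groth.Agent.H34.FibDepthMod.flat_localizedModule q'.primeCompl (C' ⊗[C] E1)
  haveI tE0 := Groth.Agent.H29.KollarBC.isScalarTower_loc A' q'.primeCompl (C' ⊗[C] E0)
  haveI tE1 := Groth.Agent.H29.KollarBC.isScalarTower_loc A' q'.primeCompl (C' ⊗[C] E1)
  haveI tG := Groth.Agent.H29.KollarBC.isScalarTower_loc A' q'.primeCompl (C' ⊗[C] G)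
  -- flatness of `G` off `V(J)`
  have hGU' : ∀ Q : PrimeSpectrum (Localization.AtPrime q'),
      ¬ (J.map (algebraMap C C')).map (algebraMap C' (Localization.AtPrime q')) ≤ Q.asIdeal →
      FlatCA.FlatAt A' Q.asIdeal (LocalizedModule q'.primeCompl (C' ⊗[C] G)) := by
    intro Q hQ
    have hq : ¬ J.map (algebraMap C C') ≤
        Q.asIdeal.comap (algebraMap C' (Localization.AtPrime q')) :=
      fun h => hQ (Ideal.map_le_iff_le_comap.mpr h)
    have hG0 : Module.Flat (Localization.AtPrime
        ((Q.asIdeal.comap (algebraMap C' (Localization.AtPrime q'))).comap (algebraMap C C')))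
        (LocalizedModule ((Q.asIdeal.comap (algebraMap C' (Localization.AtPrime q'))).comap
          (algebraMap C C')).primeCompl G) := by
      haveI := hGU ⟨(Q.asIdeal.comap (algebraMap C' (Localization.AtPrime q'))).comap
        (algebraMap C C'), inferInstance⟩ (fun h => hq (Ideal.map_le_iff_le_comap.mpr h))
      infer_instance
    have hG1 := Groth.Agent.H29.KollarBC.flat_localizedModule_baseChange G
      (Q.asIdeal.comap (algebraMap C' (Localization.AtPrime q'))) hG0
    haveI : Module.Flat A' (Localization.AtPrime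
        (Q.asIdeal.comap (algebraMap C' (Localization.AtPrime q')))) :=
      Module.Flat.trans A' C' _
    haveI := Groth.Agent.H29.KollarBC.isScalarTower_loc A'
      (Q.asIdeal.comap (algebraMap C' (Localization.AtPrime q'))).primeCompl (C' ⊗[C] G)
    have h1 : Module.Flat A' (LocalizedModule
        (Q.asIdeal.comap (algebraMap C' (Localization.AtPrime q'))).primeCompl (C' ⊗[C] G)) :=
      Module.Flat.trans A' (Localization.AtPrime
        (Q.asIdeal.comap (algebraMap C' (Localization.AtPrime q')))) _
    exact Groth.Agent.H29.KollarLoc.flat_locLoc q' (C' ⊗[C] G) Q.asIdeal h1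
  -- the exact sequence
  have huv' : Function.Exact (h.baseChange C') (v.baseChange C') := by
    rw [LinearMap.baseChange_eq_ltensor, LinearMap.baseChange_eq_ltensor]
    exact lTensor_exact C' hhv hv
  have hv' : Function.Surjective (v.baseChange C') := by
    rw [LinearMap.baseChange_eq_ltensor]
    exact LinearMap.lTensor_surjective C' hv
  have h0 := hfib (C' ⊗[C] E0) 2 le_rfl
  have h1 := hfib (C' ⊗[C] E1) 1 (by norm_num)
  exact aux (A' := A') q' (J.map (algebraMap C C')) (LinearMap.ker (h.baseChange C'))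
    (C' ⊗[C] E0) (C' ⊗[C] E1) (C' ⊗[C] G) (LinearMap.ker (h.baseChange C')).subtype
    (h.baseChange C') (v.baseChange C') (Submodule.injective_subtype _)
    (LinearMap.exact_subtype_ker_map _) huv' hv' hKfl hGU' (by exact_mod_cast h0)
    (by exact_mod_cast h1)

end Main

end Groth.Agent.H29.Inf.ArtStep
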