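import Mathlib
import Groth.Agent.H29.KollarFlat2
import Groth.Agent.H29.KollarBC
import Groth.Agent.H71.SkReflexive
import Groth.Agent.H15.SkAt

/-!
# The closed fibre of the kernel in a four-term sequence with flat cokernel is `(S₂)`
-/

set_option autoImplicit false
set_option linter.style.haveILetI false
set_option maxHeartbeats 400000

universe u

open Function

namespace Groth.Agent.H29.Inf.Final

section Ker

variable (Φ : Type u) [CommRing Φ] [IsNoetherianRing Φ]

omit [IsNoetherianRing Φ] in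
theorem hasSk_one_of_two (hΦ : LocCoh.HasSk 2 Φ Φ) : LocCoh.HasSk 1 Φ Φ := by
  intro p hp
  refine le_trans (le_min ?_ (min_le_right _ _)) (hΦ p)
  exact le_trans (min_le_left _ _) (by exact_mod_cast (by norm_num : (1 : ℕ) ≤ 2))

omit [IsNoetherianRing Φ] in
theorem support_self_eq_univ [Nontrivial Φ] : Module.support Φ Φ = Set.univ := by
  rw [Set.eq_univ_iff_forall]
  intro p
  rw [Module.mem_support_iff']
  refine ⟨1, fun r hr h0 => hr ?_⟩
  rw [smul_eq_mul, mul_one] at h0
  rw [h0]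
  exact p.asIdeal.zero_mem

/-- The kernel of a map of finite free modules over an `(S₂)` ring is `(S₂)`. -/
theorem hasSk_two_ker_of_free (hΦ : LocCoh.HasSk 2 Φ Φ) (P0 P1 : Type u) [AddCommGroup P0]
    [Module Φ P0] [Module.Finite Φ P0] [Module.Free Φ P0] [AddCommGroup P1] [Module Φ P1]
    [Module.Finite Φ P1] [Module.Free Φ P1] (w : P0 →ₗ[Φ] P1) :
    LocCoh.HasSk 2 Φ (LinearMap.ker w) := by
  by_cases hnt : Nontrivial Φ
  · let w' : P0 →ₗ[Φ] (P1 × Φ) := w.prod 0
    have hker : LinearMap.ker w' = LinearMap.ker w := by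
      rw [LinearMap.ker_prod, LinearMap.ker_zero, inf_top_eq]
    have hsupp : Module.support Φ (LinearMap.ker w') ⊆ Module.support Φ (P1 × Φ) := by
      have h1 : Module.support Φ Φ ⊆ Module.support Φ (P1 × Φ) :=
        Module.support_subset_of_injective (LinearMap.inr Φ P1 Φ) LinearMap.inr_injective
      rw [support_self_eq_univ] at h1
      exact fun x _ => h1 (Set.mem_univ x)
    have h1 : LocCoh.HasSk 1 Φ (P1 × Φ) :=
      Groth.Agent.H71.SK.reflexive_hasSk_one Φ (P1 × Φ) (hasSk_one_of_two Φ hΦ)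
    have h0 : LocCoh.HasSk 2 Φ P0 := Groth.Agent.H71.SK.reflexive_hasSk_two Φ P0 hΦ
    have := (Groth.Agent.H71.SK.hasSk_ker Φ P0 (P1 × Φ) w').2 hsupp h1 h0
    rw [hker] at this
    exact this
  · rw [not_nontrivial_iff_subsingleton] at hnt
    intro p hp
    exact absurd ((Ideal.eq_top_iff_one p).mpr (by
      rw [Subsingleton.elim (1 : Φ) 0]; exact p.zero_mem)) hp.ne_top

end Ker


section Quot

variable {B : Type u} [CommRing B] (I : Ideal B)

/-- The induced map on quotients by `I • ⊤`, linear over `B ⧸ I`. -/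
noncomputable def quotMap {X Y : Type u} [AddCommGroup X] [Module B X] [AddCommGroup Y]
    [Module B Y] (f : X →ₗ[B] Y) :
    (X ⧸ (I • ⊤ : Submodule B X)) →ₗ[B ⧸ I] (Y ⧸ (I • ⊤ : Submodule B Y)) :=
  LinearMap.extendScalarsOfSurjective (Ideal.Quotient.mk_surjective (I := I))
    (Submodule.mapQ _ _ f (by
      rw [← Submodule.map_le_iff_le_comap, Submodule.map_smul'']
      exact Submodule.smul_mono le_rfl le_top))

theorem quotMap_mk {X Y : Type u} [AddCommGroup X] [Module B X] [AddCommGroup Y]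
    [Module B Y] (f : X →ₗ[B] Y) (x : X) :
    quotMap I f (Submodule.Quotient.mk x) = Submodule.Quotient.mk (f x) := rfl

variable [IsNoetherianRing B]

theorem hasSk_two_quot_of_exact (hΦ : LocCoh.HasSk 2 (B ⧸ I) (B ⧸ I))
    (K E0 E1 : Type u) [AddCommGroup K] [Module B K]
    [AddCommGroup E0] [Module B E0] [Module.Finite B E0] [Module.Free B E0]
    [AddCommGroup E1] [Module B E1] [Module.Finite B E1] [Module.Free B E1]
    (f : K →ₗ[B] E0) (u : E0 →ₗ[B] E1) (hfu : ∀ x, u (f x) = 0)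
    (hinj : ∀ x : K, f x ∈ (I • ⊤ : Submodule B E0) → x ∈ (I • ⊤ : Submodule B K))
    (hex : ∀ y : E0, u y ∈ (I • ⊤ : Submodule B E1) →
      ∃ x : K, y - f x ∈ (I • ⊤ : Submodule B E0)) :
    LocCoh.HasSk 2 (B ⧸ I) (K ⧸ (I • ⊤ : Submodule B K)) := by
  have e0 := (Groth.Agent.H29.KollarBC.isBaseChange_mkQ I E0).equiv
  have e1 := (Groth.Agent.H29.KollarBC.isBaseChange_mkQ I E1).equiv
  haveI : Module.Free (B ⧸ I) (E0 ⧸ (I • ⊤ : Submodule B E0)) := Module.Free.of_equiv e0
  haveI : Module.Free (B ⧸ I) (E1 ⧸ (I • ⊤ : Submodule B E1)) := Module.Free.of_equiv e1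
  haveI : Module.Finite (B ⧸ I) (E0 ⧸ (I • ⊤ : Submodule B E0)) := Module.Finite.equiv e0
  haveI : Module.Finite (B ⧸ I) (E1 ⧸ (I • ⊤ : Submodule B E1)) := Module.Finite.equiv e1
  have hfinj : Injective (quotMap I f) := by
    rw [← LinearMap.ker_eq_bot, LinearMap.ker_eq_bot']
    intro xb hxb
    obtain ⟨x, rfl⟩ := Submodule.Quotient.mk_surjective _ xb
    rw [quotMap_mk, Submodule.Quotient.mk_eq_zero] at hxb
    exact (Submodule.Quotient.mk_eq_zero _).mpr (hinj x hxb)
  have hrange : LinearMap.range (quotMap I f) = LinearMap.ker (quotMap I u) := by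
    apply le_antisymm
    · rintro _ ⟨xb, rfl⟩
      obtain ⟨x, rfl⟩ := Submodule.Quotient.mk_surjective _ xb
      rw [LinearMap.mem_ker, quotMap_mk, quotMap_mk, hfu, Submodule.Quotient.mk_zero]
    · intro yb hyb
      obtain ⟨y, rfl⟩ := Submodule.Quotient.mk_surjective _ yb
      rw [LinearMap.mem_ker, quotMap_mk, Submodule.Quotient.mk_eq_zero] at hyb
      obtain ⟨x, hx⟩ := hex y hyb
      refine ⟨Submodule.Quotient.mk x, ?_⟩
      rw [quotMap_mk]
      exact ((Submodule.Quotient.eq _).mpr hx).symm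
  let e : (K ⧸ (I • ⊤ : Submodule B K)) ≃ₗ[B ⧸ I] LinearMap.ker (quotMap I u) :=
    LinearEquiv.ofInjective (quotMap I f) hfinj ≪≫ₗ LinearEquiv.ofEq _ _ hrange
  exact Groth.Agent.H15.SkAt.hasSk_congr e.symm 2
    (hasSk_two_ker_of_free (B ⧸ I) hΦ _ _ (quotMap I u))

end Quot


section Flat

variable {A B : Type u} [CommRing A] [CommRing B] [Algebra A B] (𝔭 : Ideal A)

theorem flat_and_mem (K E0 E1 G : Type u)
    [AddCommGroup K] [Module B K] [Module A K] [IsScalarTower A B K]
    [AddCommGroup E0] [Module B E0] [Module A E0] [IsScalarTower A B E0] [Module.Flat A E0]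
    [AddCommGroup E1] [Module B E1] [Module A E1] [IsScalarTower A B E1] [Module.Flat A E1]
    [AddCommGroup G] [Module B G] [Module A G] [IsScalarTower A B G] [Module.Flat A G]
    (f : K →ₗ[B] E0) (u : E0 →ₗ[B] E1) (v : E1 →ₗ[B] G)
    (hf : Injective f) (hfu : Function.Exact f u) (huv : Function.Exact u v) (hv : Surjective v) :
    Module.Flat A K ∧
    (∀ x : K, f x ∈ (𝔭.map (algebraMap A B) • ⊤ : Submodule B E0) →
      x ∈ (𝔭.map (algebraMap A B) • ⊤ : Submodule B K)) ∧
    (∀ y : E0, u y ∈ (𝔭.map (algebraMap A B) • ⊤ : Submodule B E1) →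
      ∃ x : K, y - f x ∈ (𝔭.map (algebraMap A B) • ⊤ : Submodule B E0)) := by
  let ιA : LinearMap.range u →ₗ[A] E1 := (LinearMap.range u).subtype.restrictScalars A
  let vA : E1 →ₗ[A] G := v.restrictScalars A
  let fA : K →ₗ[A] E0 := f.restrictScalars A
  let πA : E0 →ₗ[A] LinearMap.range u := u.rangeRestrict.restrictScalars A
  have hι : Injective ιA := Submodule.injective_subtype _
  have hex1 : Function.Exact ιA vA := by
    intro y
    rw [show vA y = v y from rfl, huv y]
    constructor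
    · rintro ⟨x, rfl⟩
      exact ⟨⟨u x, x, rfl⟩, rfl⟩
    · rintro ⟨⟨_, x, rfl⟩, rfl⟩
      exact ⟨x, rfl⟩
  have hπ : Surjective πA := LinearMap.surjective_rangeRestrict u
  have hex0 : Function.Exact fA πA := by
    intro y
    rw [← show (u y = 0 ↔ y ∈ Set.range fA) from hfu y]
    constructor
    · intro h
      exact congrArg Subtype.val h
    · intro h
      exact Subtype.ext h
  haveI hZ : Module.Flat A (LinearMap.range u) :=
    Groth.Agent.H29.KollarFlat.flat_of_exact_flat_flat ιA vA hι hex1 hv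
  have hK : Module.Flat A K :=
    Groth.Agent.H29.KollarFlat.flat_of_exact_flat_flat fA πA hf hex0 hπ
  refine ⟨hK, fun x hx => ?_, fun y hy => ?_⟩
  · rw [Groth.Agent.H57.mem_map_smul_top_iff] at hx ⊢
    exact Groth.Agent.H29.KollarFlat.mem_smul_top_of_flat_coker fA πA hf hex0 hπ 𝔭 x hx
  · rw [Groth.Agent.H57.mem_map_smul_top_iff] at hy
    have h1 : πA y ∈ (𝔭 • ⊤ : Submodule A (LinearMap.range u)) :=
      Groth.Agent.H29.KollarFlat.mem_smul_top_of_flat_coker ιA vA hι hex1 hv 𝔭 (πA y) hy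
    have h2 : (𝔭 • ⊤ : Submodule A (LinearMap.range u)) =
        (𝔭 • ⊤ : Submodule A E0).map πA := by
      rw [Submodule.map_smul'', Submodule.map_top, LinearMap.range_eq_top.mpr hπ]
    rw [h2] at h1
    obtain ⟨y', hy', hyy'⟩ := h1
    have h3 : u (y - y') = 0 := by
      have := congrArg Subtype.val hyy'
      rw [map_sub, sub_eq_zero]
      exact this.symm
    obtain ⟨x, hx⟩ := (hfu (y - y')).mp h3
    refine ⟨x, ?_⟩
    rw [Groth.Agent.H57.mem_map_smul_top_iff, hx, sub_sub_cancel]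
    exact hy'

end Flat

end Groth.Agent.H29.Inf.Final
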